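import Mathlib

/-! Steinitz's isomorphism `I × J ≅ R × IJ` for Dedekind domains and powers of invertible modules. -/

namespace Groth.Agent.Steinitz

universe u v w

open TensorProduct

variable {R : Type u} [CommRing R]

/-- Multiplication by a nonzero element identifies an ideal with its multiple. -/
noncomputable def spanMulEquiv [IsDomain R] (P : Ideal R) {b : R} (hb : b ≠ 0) :
    P ≃ₗ[R] (Ideal.span {b} * P : Ideal R) :=
  LinearEquiv.ofBijective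
    { toFun := fun (x : P) => (⟨b * (x : R), Ideal.mem_span_singleton_mul.mpr ⟨x, x.2, rfl⟩⟩ :
        (Ideal.span {b} * P : Ideal R))
      map_add' := fun x y => Subtype.ext (by simp [mul_add])
      map_smul' := fun r x => Subtype.ext (by simp [mul_left_comm]) }
    ⟨fun x y h => Subtype.ext (mul_left_cancel₀ hb (congrArg Subtype.val h)),
     fun z => by
      obtain ⟨x, hx, e⟩ := Ideal.mem_span_singleton_mul.mp z.2
      exact ⟨⟨x, hx⟩, Subtype.ext e⟩⟩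

/-- Comaximal ideals: `I × C ≅ R × (I ⊓ C)`. -/
def prodEquivOfAddEqOne (I C : Ideal R) (x₀ : I) (y₀ : C) (h : (x₀ : R) + y₀ = 1) :
    (I × C) ≃ₗ[R] R × (I ⊓ C : Ideal R) where
  toFun p := ((p.1 : R) + p.2, ⟨(p.1 : R) - ((p.1 : R) + p.2) * x₀,
    I.sub_mem p.1.2 (I.mul_mem_left _ x₀.2), by
      have e : (p.1 : R) - ((p.1 : R) + p.2) * x₀ = ((p.1 : R) + p.2) * y₀ - p.2 := by
        linear_combination -((p.1 : R) + p.2) * h
      rw [e]
      exact C.sub_mem (C.mul_mem_left _ y₀.2) p.2.2⟩)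
  map_add' p q := Prod.ext (by simp; ring) (Subtype.ext (by simp; ring))
  map_smul' r p := Prod.ext (by simp [mul_add]) (Subtype.ext (by simp; ring))
  invFun q := (⟨q.1 * x₀ + q.2, I.add_mem (I.mul_mem_left _ x₀.2) q.2.2.1⟩,
    ⟨q.1 * y₀ - q.2, C.sub_mem (C.mul_mem_left _ y₀.2) q.2.2.2⟩)
  left_inv p := by
    refine Prod.ext (Subtype.ext ?_) (Subtype.ext ?_)
    · simp
    · simp only
      linear_combination ((p.1 : R) + p.2) * h
  right_inv q := by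
    refine Prod.ext ?_ (Subtype.ext ?_)
    · simp only
      linear_combination q.1 * h
    · simp only
      linear_combination -(q.1 * (x₀ : R)) * h

theorem ideal_prod [IsDedekindDomain R] (I J : Ideal R) (hI : I ≠ ⊥) (hJ : J ≠ ⊥) :
    Nonempty ((I × J) ≃ₗ[R] R × (I * J : Ideal R)) := by
  obtain ⟨b, hb, hb0⟩ := Submodule.exists_mem_ne_zero_of_ne_bot hJ
  obtain ⟨J₂, hJ₂⟩ : J ∣ Ideal.span {b} := Ideal.dvd_iff_le.mpr (by simpa [Ideal.span_le] using hb)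
  have hJ₂0 : J₂ ≠ ⊥ := fun h0 => hb0 (by simpa [h0] using hJ₂)
  obtain ⟨a, ha0, ha⟩ : ∃ a, a ≠ 0 ∧ I * J₂ ⊔ Ideal.span {a} = J₂ := by
    obtain ⟨a, ha⟩ := IsDedekindDomain.exists_sup_span_eq (Ideal.mul_le_right : I * J₂ ≤ J₂)
      (mul_ne_zero hI hJ₂0)
    by_cases h0 : a = 0
    · obtain ⟨c, hc, hc0⟩ := Submodule.exists_mem_ne_zero_of_ne_bot hJ₂0
      have e : I * J₂ = J₂ := by simpa [h0] using ha
      exact ⟨c, hc0, by rw [e]; exact sup_eq_left.mpr (by simpa [Ideal.span_le] using hc)⟩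
    · exact ⟨a, h0, ha⟩
  obtain ⟨C, hC⟩ : J₂ ∣ Ideal.span {a} := Ideal.dvd_iff_le.mpr (ha ▸ le_sup_right)
  have htop : I ⊔ C = ⊤ := by
    have : J₂ * (I ⊔ C) = J₂ * ⊤ := by
      rw [Ideal.mul_sup, Ideal.mul_top, ← hC, mul_comm J₂ I, ha]
    exact mul_left_cancel₀ (show J₂ ≠ 0 from hJ₂0) this
  have e1 : Ideal.span {b} * C = Ideal.span {a} * J := by rw [hJ₂, hC]; ring
  have e2 : Ideal.span {b} * (I * C) = Ideal.span {a} * (I * J) := by rw [hJ₂, hC]; ring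
  let f1 : C ≃ₗ[R] J :=
    spanMulEquiv C hb0 ≪≫ₗ LinearEquiv.ofEq _ _ e1 ≪≫ₗ (spanMulEquiv J ha0).symm
  let f2 : (I * C : Ideal R) ≃ₗ[R] (I * J : Ideal R) :=
    spanMulEquiv (I * C) hb0 ≪≫ₗ LinearEquiv.ofEq _ _ e2 ≪≫ₗ (spanMulEquiv (I * J) ha0).symm
  obtain ⟨x₀, hx₀, y₀, hy₀, h1⟩ := Submodule.mem_sup.mp (htop ▸ Submodule.mem_top (x := (1 : R)))
  exact ⟨(LinearEquiv.prodCongr (LinearEquiv.refl R I) f1).symm ≪≫ₗ
    prodEquivOfAddEqOne I C ⟨x₀, hx₀⟩ ⟨y₀, hy₀⟩ h1 ≪≫ₗ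
    LinearEquiv.prodCongr (LinearEquiv.refl R R)
      (LinearEquiv.ofEq _ _ (Ideal.mul_eq_inf_of_isCoprime
        (Ideal.isCoprime_iff_sup_eq.mpr htop)).symm ≪≫ₗ f2)⟩

theorem exists_ideal [IsDomain R] (P : Type v) [AddCommGroup P] [Module R P]
    [Module.Invertible R P] : ∃ I : Ideal R, I ≠ ⊥ ∧ Nonempty (P ≃ₗ[R] I) := by
  obtain ⟨I, ⟨e⟩⟩ := Module.Invertible.exists_linearEquiv_ideal R P
  refine ⟨I, ?_, ⟨e⟩⟩
  rintro rfl
  haveI : Subsingleton P := e.toEquiv.subsingleton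
  haveI : Subsingleton R := (Module.Invertible.linearEquiv R P).symm.toEquiv.subsingleton
  exact zero_ne_one (Subsingleton.elim (0 : R) 1)

theorem invertible_prod [IsDedekindDomain R] (P : Type v) [AddCommGroup P] [Module R P]
    [Module.Invertible R P] (Q : Type w) [AddCommGroup Q] [Module R Q] [Module.Invertible R Q] :
    Nonempty ((P × Q) ≃ₗ[R] R × (P ⊗[R] Q)) := by
  obtain ⟨I, hI, ⟨eP⟩⟩ := exists_ideal (R := R) P
  obtain ⟨J, hJ, ⟨eQ⟩⟩ := exists_ideal (R := R) Q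
  haveI : Module.Flat R J := Module.Flat.of_linearEquiv eQ.symm
  obtain ⟨e⟩ := ideal_prod I J hI hJ
  let m : (I ⊗[R] J) ≃ₗ[R] (I * J : Ideal R) := Submodule.LinearDisjoint.mulMap
    (.of_left_le_one_of_flat I J <| le_top.trans Ideal.one_eq_top.ge)
  exact ⟨LinearEquiv.prodCongr eP eQ ≪≫ₗ e ≪≫ₗ LinearEquiv.prodCongr (LinearEquiv.refl R R)
    (m.symm ≪≫ₗ (TensorProduct.congr eP eQ).symm)⟩

theorem pow_succ [IsDedekindDomain R] (N : Type v) [AddCommGroup N] [Module R N]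
    [Module.Invertible R N] (n : ℕ) :
    ∃ (K : Type (max u v)) (_ : AddCommGroup K) (_ : Module R K) (_ : Module.Invertible R K),
      CommRing.Pic.mk R K = CommRing.Pic.mk R N ^ (n + 1) ∧
        Nonempty ((Fin (n + 1) → N) ≃ₗ[R] (Fin n → R) × K) := by
  induction n with
  | zero =>
    haveI : Module.Invertible R (ULift.{u} N) := Module.Invertible.congr ULift.moduleEquiv.symm
    refine ⟨ULift.{u} N, inferInstance, inferInstance, inferInstance, ?_, ⟨?_⟩⟩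
    · rw [pow_one, CommRing.Pic.mk_eq_mk_iff]
      exact ⟨ULift.moduleEquiv⟩
    · exact LinearEquiv.funUnique (Fin 1) R N ≪≫ₗ ULift.moduleEquiv.symm ≪≫ₗ
        (LinearEquiv.uniqueProd).symm
  | succ n ih =>
    obtain ⟨K, i1, i2, i3, hK, ⟨e⟩⟩ := ih
    obtain ⟨f⟩ := invertible_prod (R := R) N K
    refine ⟨N ⊗[R] K, inferInstance, inferInstance, inferInstance, ?_, ⟨?_⟩⟩
    · rw [CommRing.Pic.mk_tensor, hK, _root_.pow_succ' _ (n + 1)]
    · exact (Fin.consLinearEquiv R fun _ : Fin (n + 2) => N).symm ≪≫ₗ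
        LinearEquiv.prodCongr (LinearEquiv.refl R N) e ≪≫ₗ
        (LinearEquiv.prodAssoc R _ _ _).symm ≪≫ₗ
        LinearEquiv.prodCongr (LinearEquiv.prodComm R _ _) (LinearEquiv.refl R K) ≪≫ₗ
        LinearEquiv.prodAssoc R _ _ _ ≪≫ₗ
        LinearEquiv.prodCongr (LinearEquiv.refl R _) f ≪≫ₗ
        (LinearEquiv.prodAssoc R _ _ _).symm ≪≫ₗ
        LinearEquiv.prodCongr (LinearEquiv.prodComm R _ _ ≪≫ₗ
          Fin.consLinearEquiv R fun _ : Fin (n + 1) => R) (LinearEquiv.refl R _)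

end Groth.Agent.Steinitz
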